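import Groth.Agent.BlowBCLib.Base
import Groth.Agent.BlowProjLib.Present
import Groth.Agent.BlowProjLib.Main
import Groth.Agent.KoszDetLib.Cone
import Groth.Prelude.Def_RegImm

/-!
# Blowing up a Koszul-regular ideal commutes with Tor-independent base change
-/

set_option autoImplicit false
set_option maxHeartbeats 1000000
set_option backward.isDefEq.respectTransparency false
set_option backward.isDefEq.respectTransparency.types false
set_option linter.style.haveILetI false

universe u

open AlgebraicGeometry CategoryTheory CategoryTheory.Limits TensorProduct KoszDetLib MvPolynomial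

namespace Groth.Agent.BlowKoszBCLib

/-- Base change of a presentation: if `x` is a nonzero divisor on the base-changed presented algebra,
it is one on the tensor product. -/
theorem nzd_of_presentation {A A' C C' : Type u} [CommRing A] [CommRing A'] [CommRing C] [CommRing C']
    [Algebra A A'] [Algebra A C] [Algebra A' C'] {n : ℕ} (v : Fin n → C) (v' : Fin n → C')
    (G : Fin n → MvPolynomial (Fin n) A) (hsurj : Function.Surjective (aeval (R := A) v))
    (hker : RingHom.ker (aeval (R := A) v).toRingHom = Ideal.span (Set.range G))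
    (hker' : RingHom.ker (aeval (R := A') v').toRingHom =
      Ideal.span (Set.range fun j => MvPolynomial.map (algebraMap A A') (G j)))
    (x : A) (hx' : algebraMap A' C' (algebraMap A A' x) ∈ nonZeroDivisors C') :
    ((1 : A') ⊗ₜ[A] algebraMap A C x) ∈ nonZeroDivisors (A' ⊗[A] C) := by
  let v'' : Fin n → A' ⊗[A] C := fun m => (1 : A') ⊗ₜ[A] v m
  have hincl : ∀ p : MvPolynomial (Fin n) A, aeval (R := A') v'' (MvPolynomial.map (algebraMap A A') p) =
      (1 : A') ⊗ₜ[A] aeval (R := A) v p := fun p => by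
    rw [aeval_map_algebraMap]
    exact (DFunLike.congr_fun (MvPolynomial.comp_aeval v
      (Algebra.TensorProduct.includeRight (R := A) (A := A'))) p).symm
  have hsurj'' : Function.Surjective (aeval (R := A') v'') := by
    intro y
    induction y using TensorProduct.induction_on with
    | zero => exact ⟨0, map_zero _⟩
    | tmul a c =>
      obtain ⟨p, rfl⟩ := hsurj c
      refine ⟨MvPolynomial.C a * MvPolynomial.map (algebraMap A A') p, ?_⟩
      rw [map_mul, hincl, aeval_C, Algebra.TensorProduct.algebraMap_apply,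
        Algebra.TensorProduct.tmul_mul_tmul, mul_one, one_mul]
      rfl
    | add a b ha hb =>
      obtain ⟨p, rfl⟩ := ha
      obtain ⟨q, rfl⟩ := hb
      exact ⟨p + q, map_add _ _ _⟩
  rw [mem_nonZeroDivisors_iff_right]
  intro y hy
  obtain ⟨p, rfl⟩ := hsurj'' y
  let c : MvPolynomial (Fin n) A' := MvPolynomial.map (algebraMap A A') (MvPolynomial.C x)
  have hc : aeval (R := A') v'' c = (1 : A') ⊗ₜ[A] algebraMap A C x := by rw [hincl, aeval_C]
  rw [← hc, ← map_mul] at hy
  have hG : Ideal.span (Set.range fun j => MvPolynomial.map (algebraMap A A') (G j)) ≤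
      RingHom.ker (aeval (R := A') v'').toRingHom := by
    rw [Ideal.span_le]
    rintro _ ⟨j, rfl⟩
    show aeval (R := A') v'' (MvPolynomial.map (algebraMap A A') (G j)) = 0
    have h1 : G j ∈ RingHom.ker (aeval (R := A) v).toRingHom := hker ▸ Ideal.subset_span ⟨j, rfl⟩
    rw [hincl, show aeval (R := A) v (G j) = 0 from h1, TensorProduct.tmul_zero]
  suffices hp : p ∈ RingHom.ker (aeval (R := A') v').toRingHom from hG (hker' ▸ hp)
  letI : Algebra A C' := ((algebraMap A' C').comp (algebraMap A A')).toAlgebra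
  haveI : IsScalarTower A A' C' := IsScalarTower.of_algebraMap_eq fun _ => rfl
  have hv' : ∀ q ∈ RingHom.ker (aeval (R := A) v), aeval (R := A) v' q = 0 := by
    intro q hq
    have hq' : q ∈ RingHom.ker (aeval (R := A) v).toRingHom := hq
    rw [hker] at hq'
    refine (Ideal.span_le (I := RingHom.ker (aeval (R := A) v').toRingHom)).mpr ?_ hq'
    rintro _ ⟨j, rfl⟩
    show aeval (R := A) v' (G j) = 0
    rw [← aeval_map_algebraMap (R := A) A' v' (G j)]
    have h1 : MvPolynomial.map (algebraMap A A') (G j) ∈ RingHom.ker (aeval (R := A') v').toRingHom :=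
      hker' ▸ Ideal.subset_span ⟨j, rfl⟩
    exact h1
  let e := Ideal.quotientKerAlgEquivOfSurjective (f := aeval (R := A) v) hsurj
  let φ₀ : C →ₐ[A] C' := (Ideal.Quotient.liftₐ (RingHom.ker (aeval (R := A) v)) (aeval (R := A) v')
    hv').comp e.symm.toAlgHom
  have hφ₀ : ∀ m, φ₀ (v m) = v' m := fun m => by
    have h1 : e.symm (v m) = Ideal.Quotient.mk (RingHom.ker (aeval (R := A) v)) (X m) :=
      (AlgEquiv.symm_apply_eq e).mpr (aeval_X v m).symm
    show Ideal.Quotient.liftₐ (RingHom.ker (aeval (R := A) v)) (aeval (R := A) v') hv' (e.symm (v m)) = _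
    rw [h1]
    exact aeval_X (R := A) v' m
  let ψ : A' ⊗[A] C →ₐ[A'] C' := Algebra.TensorProduct.lift (R := A) (S := A') (Algebra.ofId A' C') φ₀
    (fun _ _ => Commute.all _ _)
  have hψ : ψ.comp (aeval (R := A') v'') = aeval (R := A') v' := by
    refine MvPolynomial.algHom_ext fun m => ?_
    rw [AlgHom.comp_apply, aeval_X, aeval_X]
    simp only [ψ, v'', Algebra.TensorProduct.lift_tmul, map_one, one_mul, hφ₀]
  have h1 := congrArg ψ hy
  rw [map_zero, ← AlgHom.comp_apply, hψ, map_mul] at h1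
  have h2 : aeval (R := A') v' c = algebraMap A' C' (algebraMap A A' x) := by
    simp only [c, map_C, aeval_C]
  rw [h2] at h1
  exact mem_nonZeroDivisors_iff_right.mp hx' _ h1

theorem nzd_comm {A A' C : Type u} [CommRing A] [CommRing A'] [CommRing C] [Algebra A A'] [Algebra A C]
    {a : A'} {c : C} (h : a ⊗ₜ[A] c ∈ nonZeroDivisors (A' ⊗[A] C)) :
    c ⊗ₜ[A] a ∈ nonZeroDivisors (C ⊗[A] A') :=
  BlowUpLib.nzd_of_bijective (Algebra.TensorProduct.comm A A' C).toRingEquiv.toRingHom
    (Algebra.TensorProduct.comm A A' C).bijective h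

/-- Any chart of the blowing up, base changed. -/
theorem nzd_tensor {A A' : Type u} [CommRing A] [CommRing A'] [Algebra A A'] {n : ℕ}
    (f : Fin n → A) (hf : IsExactK f) (hf' : IsExactK (algebraMap A A' ∘ f)) (J : Ideal A)
    (hJ : J = Ideal.span (Set.range f)) (k : Fin n) :
    (algebraMap A (BlowUp.affineAlgebra A J (f k)) (f k) ⊗ₜ[A] (1 : A')) ∈
      nonZeroDivisors (BlowUp.affineAlgebra A J (f k) ⊗[A] A') := by
  cases n with
  | zero => exact k.elim0
  | succ n =>
    subst hJ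
    let σ : Fin (n + 1) ≃ Fin (n + 1) := Equiv.swap 0 k
    have hr : Set.range (f ∘ σ) = Set.range f := by
      rw [Set.range_comp, Equiv.range_eq_univ, Set.image_univ]
    let f' : Fin (n + 1) → A' := algebraMap A A' ∘ f
    let J' : Ideal A' := Ideal.span (Set.range f')
    have hr' : Set.range (f' ∘ σ) = Set.range f' := by
      rw [Set.range_comp, Equiv.range_eq_univ, Set.image_univ]
    have hσ : σ 0 = k := Equiv.swap_apply_left 0 k
    let J : Ideal A := Ideal.span (Set.range f)
    let v : Fin n → BlowUp.affineAlgebra A J (f k) := fun m =>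
      BlowUpLib.chartVar f k (σ m.succ)
    let v' : Fin n → BlowUp.affineAlgebra A' J' (f' k) := fun m => BlowUpLib.chartVar f' k (σ m.succ)
    obtain ⟨hsurj, hker⟩ := BlowProjLib.presentation_first (f ∘ σ) (KRLib.isExactK_comp_equiv hf σ) J
      (by rw [hr]) (f k) (by rw [Function.comp_apply, hσ]) v
      (fun m => BlowUpLib.chartVar_mul f k _)
    obtain ⟨-, hker'⟩ := BlowProjLib.presentation_first (f' ∘ σ) (KRLib.isExactK_comp_equiv hf' σ) J'
      (by rw [hr']) (f' k) (by rw [Function.comp_apply, hσ]) v'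
      (fun m => BlowUpLib.chartVar_mul f' k _)
    have hg : (fun j => MvPolynomial.map (algebraMap A A') (BlowPerfLib.g (f ∘ σ) j)) =
        BlowPerfLib.g (f' ∘ σ) := by
      funext j
      simp only [BlowPerfLib.g, map_sub, map_mul, map_C, map_X, f', Function.comp_apply]
    rw [← hg] at hker'
    have hx' : algebraMap A' (BlowUp.affineAlgebra A' J' (f' k)) (algebraMap A A' (f k)) ∈
        nonZeroDivisors (BlowUp.affineAlgebra A' J' (f' k)) := BlowProjLib.nzd_affineAlgebra J' (f' k)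
    have h := nzd_of_presentation (A := A) (A' := A') (C := BlowUp.affineAlgebra A J (f k))
      (C' := BlowUp.affineAlgebra A' J' (f' k)) v v' (BlowPerfLib.g (f ∘ σ)) hsurj hker hker' (f k) hx' 
    exact nzd_comm (C := BlowUp.affineAlgebra A J (f k)) h

/-- An ideal sheaf is effective Cartier near any point outside its support. -/
theorem exists_chart_of_notMem_support {P : Scheme.{u}} (𝓙 : P.IdealSheafData) {z : P}
    (hz : z ∉ 𝓙.support) : ∃ (Z : Scheme.{u}) (j : Z ⟶ P) (_ : IsOpenImmersion j),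
      z ∈ Set.range j ∧ BlowUp.IsEffCartierIdeal (𝓙.comap j) := by
  obtain ⟨U, hzU, hU⟩ := BlowUpLib.exists_affine z
    (W := ⟨(𝓙.support : Set P)ᶜ, 𝓙.support.isClosed.isOpen_compl⟩) hz
  have hemp : (𝓙.support : Set P) ∩ U.1 = ∅ :=
    Set.eq_empty_iff_forall_notMem.mpr fun w hw => hU hw.2 hw.1
  have htop : 𝓙.ideal U = ⊤ := by
    rw [𝓙.coe_support_inter U, ← U.2.fromSpec_image_zeroLocus, Set.image_eq_empty] at hemp
    exact PrimeSpectrum.zeroLocus_empty_iff_eq_top.mp hemp
  refine ⟨_, U.2.fromSpec, U.2.isOpenImmersion_fromSpec, U.2.range_fromSpec.symm ▸ hzU, ?_⟩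
  rw [BlowUpLib.comap_fromSpec 𝓙 U, htop, ← Ideal.span_singleton_one]
  exact BlowUpLib.isEffCartier_specIdeal (one_mem _)

/-- The exceptional ideal stays Cartier. -/
theorem isEffCartier_comap {X X' B P : Scheme.{u}} (𝓘 : X.IdealSheafData)
    (h𝓘 : RegImm.IsRegularIdeal .koszul 𝓘) (g : X' ⟶ X)
    (hg : ∀ (U : X.affineOpens) (rs : List Γ(X, U.1)), LCI.IsKoszulRegularSeq Γ(X, U.1) rs →
      𝓘.ideal U = Ideal.ofList rs → ∀ (V : X'.affineOpens) (e : V.1 ≤ g ⁻¹ᵁ U.1),
        LCI.IsKoszulRegularSeq Γ(X', V.1) (rs.map fun r => (g.appLE U.1 V.1 e).hom r))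
    (b : B ⟶ X) (hb : BlowUp.IsBlowUp b 𝓘) {k : P ⟶ B} {p : P ⟶ X'} (h : IsPullback k p b g) :
    BlowUp.IsEffCartierIdeal ((𝓘.comap b).comap k) := by
  refine BlowUpLib.isEffCartier_of_cover fun z => ?_
  by_cases hz : b (k z) ∈ 𝓘.support
  swap
  · refine exists_chart_of_notMem_support _ fun h1 => hz ?_
    rw [← Scheme.IdealSheafData.comap_comp, Scheme.IdealSheafData.support_comap] at h1
    exact h1
  obtain ⟨U, hxU, rs, hrs, hI⟩ := h𝓘 _ hz
  change LCI.IsKoszulRegularSeq _ rs at hrs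
  have hw : b (k z) = g (p z) := congrArg (fun (φ : P ⟶ X) => φ z) h.w
  obtain ⟨V, hzV, hVle⟩ := BlowUpLib.exists_affine (p z) (W := g ⁻¹ᵁ U.1) (show g (p z) ∈ U.1 from hw ▸ hxU)
  have hrs' := hg U rs hrs hI V hVle
  let A := Γ(X, U.1)
  let D := Γ(X', V.1)
  letI : Algebra A D := (g.appLE U.1 V.1 hVle).hom.toAlgebra
  obtain ⟨n, f, rfl⟩ : ∃ (n : ℕ) (f : Fin n → A), rs = List.ofFn f := ⟨_, rs.get, (List.ofFn_get rs).symm⟩
  have hf : IsExactK f := isExactK_of_isKoszulRegularSeq f hrs
  have hf' : IsExactK (algebraMap A D ∘ f) := by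
    rw [List.map_ofFn] at hrs'
    exact isExactK_of_isKoszulRegularSeq _ hrs'
  have hJ : Ideal.span (Set.range f) = 𝓘.ideal U := by
    rw [hI, Ideal.ofList]
    congr 1
    ext x
    simp only [Set.mem_range, Set.mem_setOf_eq, List.mem_ofFn]
    exact Iff.rfl
  -- the chart of the blow-up through `k z`
  have hP : BlowUp.IsBlowUp (pullback.fst U.2.fromSpec b) (BlowUpLib.specIdeal (A := A) (𝓘.ideal U)) :=
    BlowUpLib.comap_fromSpec 𝓘 U ▸
      BlowUpLib.isBlowUp_of_isPullback (IsPullback.of_hasPullback U.2.fromSpec b).flip hb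
  obtain ⟨u₀, hu₀⟩ : b (k z) ∈ Set.range U.2.fromSpec := U.2.range_fromSpec.symm ▸ hxU
  obtain ⟨y, -, hy⟩ := Scheme.Pullback.exists_preimage_pullback (f := U.2.fromSpec) (g := b) u₀ (k z) hu₀
  obtain ⟨a, ⟨j, rfl⟩, c₀, _, ⟨q₀, hq₀⟩, hc₀⟩ :=
    BlowUpLib.exists_chart_spec_of_span (𝓘.ideal U) (Set.range f) hJ hP y
  let Cc := BlowUp.affineAlgebra A (𝓘.ideal U) (f j)
  haveI : IsOpenImmersion U.2.fromSpec := U.2.isOpenImmersion_fromSpec
  haveI : IsOpenImmersion V.2.fromSpec := V.2.isOpenImmersion_fromSpec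
  haveI : Mono U.2.fromSpec := inferInstance
  let c : Spec (CommRingCat.of Cc) ⟶ B := c₀ ≫ pullback.snd U.2.fromSpec b
  have hcz : k z ∈ Set.range c := ⟨q₀, by rw [Scheme.Hom.comp_apply, hq₀, hy]⟩
  let a₁ : Spec (CommRingCat.of Cc) ⟶ Spec (CommRingCat.of A) :=
    Spec.map (CommRingCat.ofHom (algebraMap A Cc))
  let a₂ : Spec (CommRingCat.of D) ⟶ Spec (CommRingCat.of A) :=
    Spec.map (CommRingCat.ofHom (algebraMap A D))
  have h₁ : a₁ ≫ U.2.fromSpec = c ≫ b := by
    simp only [a₁, c, Category.assoc, ← pullback.condition, reassoc_of% hc₀]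
    rfl
  have h₂ : a₂ ≫ U.2.fromSpec = V.2.fromSpec ≫ g :=
    IsAffineOpen.SpecMap_appLE_fromSpec g U.2 V.2 hVle
  let m : pullback a₁ a₂ ⟶ pullback b g :=
    pullback.map a₁ a₂ b g c V.2.fromSpec U.2.fromSpec h₁ h₂
  haveI : IsOpenImmersion m := inferInstance
  refine ⟨_, (pullbackSpecIso A Cc D).inv ≫ m ≫ h.isoPullback.inv, inferInstance, ?_, ?_⟩
  · have hmr : h.isoPullback.hom z ∈ Set.range m := by
      rw [Scheme.Pullback.range_map]
      refine ⟨?_, ?_⟩
      · rw [Set.mem_preimage, ← Scheme.Hom.comp_apply, h.isoPullback_hom_fst]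
        exact hcz
      · rw [Set.mem_preimage, ← Scheme.Hom.comp_apply, h.isoPullback_hom_snd]
        exact V.2.range_fromSpec.symm ▸ hzV
    obtain ⟨w, hw⟩ := hmr
    refine ⟨(pullbackSpecIso A Cc D).hom w, ?_⟩
    rw [← Scheme.Hom.comp_apply, Iso.hom_inv_id_assoc, Scheme.Hom.comp_apply, hw,
      ← Scheme.Hom.comp_apply, Iso.hom_inv_id]
    rfl
  · have hk : ((pullbackSpecIso A Cc D).inv ≫ m ≫ h.isoPullback.inv) ≫ k ≫ b =
        Spec.map (CommRingCat.ofHom (Algebra.TensorProduct.includeLeftRingHom : Cc →+* Cc ⊗[A] D)) ≫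
          a₁ ≫ U.2.fromSpec := by
      rw [Category.assoc, Category.assoc, h.isoPullback_inv_fst_assoc, pullback.lift_fst_assoc,
        Category.assoc, pullbackSpecIso_inv_fst_assoc, h₁]
    rw [← Scheme.IdealSheafData.comap_comp, ← Scheme.IdealSheafData.comap_comp, Category.assoc _ k b, hk,
      Scheme.IdealSheafData.comap_comp, Scheme.IdealSheafData.comap_comp,
      BlowUpLib.comap_fromSpec 𝓘 U, BlowUpLib.comap_specIdeal, BlowUpLib.comap_specIdeal,
      (BlowUpLib.isChart_affineAlgebra (show f j ∈ 𝓘.ideal U from hJ ▸ Ideal.subset_span ⟨j, rfl⟩)).span,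
      Ideal.map_span, Set.image_singleton]
    exact BlowUpLib.isEffCartier_specIdeal (nzd_tensor f hf hf' _ hJ.symm j)

end Groth.Agent.BlowKoszBCLib
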